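import Cfsg.Agent.CosetEnum.Step
import Cfsg.Agent.CosetEnum.Fi23.F10P0
import Cfsg.Agent.CosetEnum.Fi23.F10P1
import Cfsg.Agent.CosetEnum.Fi23.F10P2
import Cfsg.Agent.CosetEnum.Fi23.F10P3
import Cfsg.Agent.CosetEnum.Fi23.F10P4
import Cfsg.Agent.CosetEnum.Fi23.F10P5
import Cfsg.Agent.CosetEnum.Fi23.F10P6
import Cfsg.Agent.CosetEnum.Fi23.F10P7
import Cfsg.Agent.CosetEnum.Fi23.F10P8
import Cfsg.Agent.CosetEnum.Fi23.F10P9
import Cfsg.Agent.CosetEnum.Fi23.F10P10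
import Cfsg.Agent.CosetEnum.Fi23.F10P11
import Cfsg.Agent.CosetEnum.Fi23.F10P12
import Cfsg.Agent.CosetEnum.Fi23.F10P13
import Cfsg.Agent.CosetEnum.Fi23.F9P0
import Cfsg.Agent.CosetEnum.Fi23.F9P1
import Cfsg.Agent.CosetEnum.Fi23.F9P2
import Cfsg.Agent.CosetEnum.Fi23.F9P3
import Cfsg.Agent.CosetEnum.Fi23.F9P4
import Cfsg.Agent.CosetEnum.Fi23.F9P5
import Cfsg.Agent.CosetEnum.Fi23.F8P0
import Cfsg.Agent.CosetEnum.Fi23.K2P0
import Cfsg.Agent.CosetEnum.Fi23.K3P0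
import Cfsg.Agent.CosetEnum.Level
import Cfsg.Agent.CosetEnum.Fi23.T10R0
import Cfsg.Agent.CosetEnum.Fi23.T10R1
import Cfsg.Agent.CosetEnum.Fi23.T10R2
import Cfsg.Agent.CosetEnum.Fi23.T10R3
import Cfsg.Agent.CosetEnum.Fi23.T10R4
import Cfsg.Agent.CosetEnum.Fi23.T10R5
import Cfsg.Agent.CosetEnum.Fi23.T10R6
import Cfsg.Agent.CosetEnum.Fi23.T10R7
import Cfsg.Agent.CosetEnum.Fi23.T10R8
import Cfsg.Agent.CosetEnum.Fi23.T10R9
import Cfsg.Agent.CosetEnum.Fi23.T10R10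
import Cfsg.Agent.CosetEnum.Fi23.T10R11
import Cfsg.Agent.CosetEnum.Fi23.T10R12
import Cfsg.Agent.CosetEnum.Fi23.T10R13
import Cfsg.Agent.CosetEnum.Fi23.T10R14
import Cfsg.Agent.CosetEnum.Fi23.T10R15
import Cfsg.Agent.CosetEnum.Fi23.T10H0
import Cfsg.Agent.CosetEnum.Fi23.T10H1
import Cfsg.Agent.CosetEnum.Fi23.T10H2
import Cfsg.Agent.CosetEnum.Fi23.T10H3
import Cfsg.Agent.CosetEnum.Fi23.T10H4
import Cfsg.Agent.CosetEnum.Fi23.T10H5
import Cfsg.Agent.CosetEnum.Fi23.T10H6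
import Cfsg.Agent.CosetEnum.Fi23.T10H7
import Cfsg.Agent.CosetEnum.Fi23.Z0
import Cfsg.Agent.CosetEnum.Fi23.Z1
import Cfsg.Agent.CosetEnum.Fi23.Z2
import Cfsg.Agent.CosetEnum.Fi23.Z3
import Cfsg.Agent.CosetEnum.Fi23.Z4
import Cfsg.Agent.CosetEnum.Fi23.Z5
import Cfsg.Agent.CosetEnum.Fi23.Z6
import Cfsg.Agent.CosetEnum.Fi23.Z7
import Cfsg.Agent.CosetEnum.Fi23.Z8
import Cfsg.Agent.CosetEnum.Fi23.Z9
import Cfsg.Agent.CosetEnum.Fi23.Z10
import Cfsg.Agent.CosetEnum.Fi23.Z11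
import Cfsg.Agent.CosetEnum.Fi23.Z12

/-! Certificates of coset enumerations and tables (generated, owner: helper28). -/

set_option autoImplicit false
set_option maxRecDepth 1000000

namespace Cfsg.Agent.CosetEnum.Fi23F10

theorem st : staticOK 10 iv (RL.map expand) subs P L = true := by decide +kernel

theorem seg : Seg P L P.m 31671 :=
  ((((((((((((((Seg.nil).snoc part0).snoc part1).snoc part2).snoc part3).snoc part4).snoc part5).snoc part6).snoc part7).snoc part8).snoc part9).snoc part10).snoc part11).snoc part12).snoc part13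

theorem cert : Cert 10 iv RL subs 31671 := fun g H hl hrels hsubs =>
  upper g H 10 iv hl (RL.map expand) subs hrels hsubs P L rfl st seg

end Cfsg.Agent.CosetEnum.Fi23F10
namespace Cfsg.Agent.CosetEnum.Fi23F9

theorem st : staticOK 9 iv (RL.map expand) subs P L = true := by decide +kernel

theorem seg : Seg P L P.m 14080 :=
  ((((((Seg.nil).snoc part0).snoc part1).snoc part2).snoc part3).snoc part4).snoc part5

theorem cert : Cert 9 iv RL subs 14080 := fun g H hl hrels hsubs =>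
  upper g H 9 iv hl (RL.map expand) subs hrels hsubs P L rfl st seg

end Cfsg.Agent.CosetEnum.Fi23F9
namespace Cfsg.Agent.CosetEnum.Fi23F8

theorem st : staticOK 8 iv (RL.map expand) subs P L = true := by decide +kernel

theorem seg : Seg P L P.m 728 :=
  (Seg.nil).snoc part0

theorem cert : Cert 8 iv RL subs 728 := fun g H hl hrels hsubs =>
  upper g H 8 iv hl (RL.map expand) subs hrels hsubs P L rfl st seg

end Cfsg.Agent.CosetEnum.Fi23F8
namespace Cfsg.Agent.CosetEnum.Fi23K2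

theorem st : staticOK 9 iv (RL.map expand) subs P L = true := by decide +kernel

theorem seg : Seg P L P.m 1 :=
  (Seg.nil).snoc part0

theorem cert : Cert 9 iv RL subs 1 := fun g H hl hrels hsubs =>
  upper g H 9 iv hl (RL.map expand) subs hrels hsubs P L rfl st seg

end Cfsg.Agent.CosetEnum.Fi23K2
namespace Cfsg.Agent.CosetEnum.Fi23K3

theorem st : staticOK 10 iv (RL.map expand) subs P L = true := by decide +kernel

theorem seg : Seg P L P.m 1 :=
  (Seg.nil).snoc part0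

theorem cert : Cert 10 iv RL subs 1 := fun g H hl hrels hsubs =>
  upper g H 10 iv hl (RL.map expand) subs hrels hsubs P L rfl st seg

end Cfsg.Agent.CosetEnum.Fi23K3
namespace Cfsg.Agent.CosetEnum.Fi23T10

theorem st : letsB 10 iv lets RL = true := by decide +kernel

theorem sk : subB 9 iv letsk = true := by decide +kernel

theorem tabOK : TabOK P 10 iv lets RL := ⟨st, (((((((((((((((Cov.of r0 rfl).trans (Cov.of r1 rfl)).trans (Cov.of r2 rfl)).trans (Cov.of r3 rfl)).trans (Cov.of r4 rfl)).trans (Cov.of r5 rfl)).trans (Cov.of r6 rfl)).trans (Cov.of r7 rfl)).trans (Cov.of r8 rfl)).trans (Cov.of r9 rfl)).trans (Cov.of r10 rfl)).trans (Cov.of r11 rfl)).trans (Cov.of r12 rfl)).trans (Cov.of r13 rfl)).trans (Cov.of r14 rfl)).trans (Cov.of r15 rfl)⟩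

theorem covO : Cov (orbC P lets [] 0 P.m) 0 P.m := (((((((((((((((Cov.of o0 rfl).trans (Cov.of o1 rfl)).trans (Cov.of o2 rfl)).trans (Cov.of o3 rfl)).trans (Cov.of o4 rfl)).trans (Cov.of o5 rfl)).trans (Cov.of o6 rfl)).trans (Cov.of o7 rfl)).trans (Cov.of o8 rfl)).trans (Cov.of o9 rfl)).trans (Cov.of o10 rfl)).trans (Cov.of o11 rfl)).trans (Cov.of o12 rfl)).trans (Cov.of o13 rfl)).trans (Cov.of o14 rfl)).trans (Cov.of o15 rfl)

theorem orbs : Orbs P letsk [] [0, 1, 28161, 31671] :=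
  ⟨by decide +kernel, by decide +kernel, Cov.of h0_0 rfl, ⟨by decide +kernel, by decide +kernel, ((((((((((((((Cov.of h1_0 rfl).trans (Cov.of h1_1 rfl)).trans (Cov.of h1_2 rfl)).trans (Cov.of h1_3 rfl)).trans (Cov.of h1_4 rfl)).trans (Cov.of h1_5 rfl)).trans (Cov.of h1_6 rfl)).trans (Cov.of h1_7 rfl)).trans (Cov.of h1_8 rfl)).trans (Cov.of h1_9 rfl)).trans (Cov.of h1_10 rfl)).trans (Cov.of h1_11 rfl)).trans (Cov.of h1_12 rfl)).trans (Cov.of h1_13 rfl)).trans (Cov.of h1_14 rfl), ⟨by decide +kernel, by decide +kernel, (Cov.of h2_0 rfl).trans (Cov.of h2_1 rfl), trivial⟩⟩⟩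

theorem last : lastD 1 [28161, 31671] = P.m := rfl

end Cfsg.Agent.CosetEnum.Fi23T10
namespace Cfsg.Agent.CosetEnum.Fi23T10

theorem zt : Cov (trivB P usZ) 0 P.m := ((((((((((((Cov.of zt0 rfl).trans (Cov.of zt1 rfl)).trans (Cov.of zt2 rfl)).trans (Cov.of zt3 rfl)).trans (Cov.of zt4 rfl)).trans (Cov.of zt5 rfl)).trans (Cov.of zt6 rfl)).trans (Cov.of zt7 rfl)).trans (Cov.of zt8 rfl)).trans (Cov.of zt9 rfl)).trans (Cov.of zt10 rfl)).trans (Cov.of zt11 rfl)).trans (Cov.of zt12 rfl)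

end Cfsg.Agent.CosetEnum.Fi23T10
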